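import Groth.Agent.IndLiftLib.Basic

/-!
Lifting ind-smoothness along nilpotent thickenings of the base.
-/

set_option autoImplicit false
set_option backward.isDefEq.respectTransparency false

universe u

open TensorProduct

namespace Groth.Agent.IndLiftLib

/-- The reduction of a flat algebra is flat over the reduction of the base. -/
theorem flat_quotient_map {R Λ : Type u} [CommRing R] [CommRing Λ] [Algebra R Λ] [Module.Flat R Λ]
    (J : Ideal R) : Module.Flat (R ⧸ J) (Λ ⧸ J.map (algebraMap R Λ)) :=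
  let e : (Λ ⧸ J.map (algebraMap R Λ)) ≃ₐ[R] (R ⧸ J) ⊗[R] Λ :=
    ((Algebra.TensorProduct.quotIdealMapEquivTensorQuot Λ J).restrictScalars R).trans
      (Algebra.TensorProduct.comm R Λ (R ⧸ J))
  Module.Flat.of_linearEquiv (AlgEquiv.ofRingEquiv (R := R ⧸ J) (f := e.toRingEquiv) fun x => by
    obtain ⟨r, rfl⟩ := Ideal.Quotient.mk_surjective x
    exact e.commutes r).toLinearEquiv

/-- Ind-smoothness lifts along a nilpotent ideal of the base when the algebra is flat. -/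
theorem indSmooth_of_pow_eq_bot : ∀ (n : ℕ) {R Λ : Type u} [CommRing R] [CommRing Λ] [Algebra R Λ]
    [Module.Flat R Λ] (I : Ideal R), I ^ n = ⊥ →
    Smoothing.IndSmooth (R ⧸ I) (Λ ⧸ I.map (algebraMap R Λ)) → Smoothing.IndSmooth R Λ := by
  intro n
  induction n using Nat.strong_induction_on with
  | _ n IH =>
  intro R Λ _ _ _ _ I hI h
  rcases le_or_gt n 2 with hn | hn
  · exact indSmooth_of_sq_zero (le_bot_iff.1 ((Ideal.pow_le_pow_right hn).trans hI.le))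
      (Ideal.Quotient.mkₐ R _) (Ideal.Quotient.mkₐ_surjective R _) (Ideal.Quotient.mkₐ_ker R _) h
  refine IH ((n + 1) / 2) (by omega) (I ^ 2)
    (le_bot_iff.1 ((pow_mul I 2 ((n + 1) / 2)).symm.le.trans ((Ideal.pow_le_pow_right (show n ≤ 2 * ((n + 1) / 2) by omega)).trans hI.le))) ?_
  let mk₁ := Ideal.Quotient.mk (I ^ 2)
  let Ib : Ideal (R ⧸ I ^ 2) := I.map mk₁
  have hle : I ^ 2 ≤ I := Ideal.pow_le_self (by norm_num)
  have hle' : (I ^ 2).map (algebraMap R Λ) ≤ I.map (algebraMap R Λ) := Ideal.map_mono hle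
  let f₁ : R ⧸ I ^ 2 →+* Λ ⧸ I.map (algebraMap R Λ) :=
    (algebraMap (R ⧸ I) _).comp (Ideal.Quotient.factor hle)
  letI : Algebra (R ⧸ I ^ 2) (Λ ⧸ I.map (algebraMap R Λ)) := f₁.toAlgebra
  have hf₁ : ∀ x ∈ Ib, f₁ x = 0 := by
    have : Ib ≤ RingHom.ker f₁ := Ideal.map_le_iff_le_comap.2 fun r hr => by
      show algebraMap (R ⧸ I) (Λ ⧸ I.map (algebraMap R Λ)) (Ideal.Quotient.mk I r) = 0
      rw [Ideal.Quotient.eq_zero_iff_mem.2 hr, map_zero]
    exact fun x hx => this hx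
  letI : Algebra ((R ⧸ I ^ 2) ⧸ Ib) (Λ ⧸ I.map (algebraMap R Λ)) := (Ideal.Quotient.lift Ib f₁ hf₁).toAlgebra
  haveI : IsScalarTower (R ⧸ I ^ 2) ((R ⧸ I ^ 2) ⧸ Ib) (Λ ⧸ I.map (algebraMap R Λ)) :=
    IsScalarTower.of_algebraMap_eq (R := R ⧸ I ^ 2) (S := (R ⧸ I ^ 2) ⧸ Ib)
      (A := Λ ⧸ I.map (algebraMap R Λ)) fun _ => rfl
  letI : Algebra (R ⧸ I) ((R ⧸ I ^ 2) ⧸ Ib) :=
    (Ideal.quotientMap Ib mk₁ Ideal.le_comap_map).toAlgebra
  haveI : IsScalarTower (R ⧸ I) ((R ⧸ I ^ 2) ⧸ Ib) (Λ ⧸ I.map (algebraMap R Λ)) :=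
    .of_algebraMap_eq fun x => by
      obtain ⟨r, rfl⟩ := Ideal.Quotient.mk_surjective x
      rfl
  have hbij : Function.Bijective (algebraMap (R ⧸ I) ((R ⧸ I ^ 2) ⧸ Ib)) := by
    refine ⟨(injective_iff_map_eq_zero _).2 fun x hx => ?_, fun x => ?_⟩
    · obtain ⟨r, rfl⟩ := Ideal.Quotient.mk_surjective x
      have h1 : mk₁ r ∈ Ib := Ideal.Quotient.eq_zero_iff_mem.1 hx
      rw [Ideal.mem_map_iff_of_surjective _ Ideal.Quotient.mk_surjective] at h1
      obtain ⟨r', hr', he⟩ := h1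
      exact Ideal.Quotient.eq_zero_iff_mem.2 (by
        simpa using I.sub_mem hr' (hle (Ideal.Quotient.eq.1 he)))
    · obtain ⟨y, rfl⟩ := Ideal.Quotient.mk_surjective x
      obtain ⟨r, rfl⟩ := Ideal.Quotient.mk_surjective y
      exact ⟨Ideal.Quotient.mk I r, rfl⟩
  haveI := flat_quotient_map (Λ := Λ) (I ^ 2)
  let q : Λ ⧸ (I ^ 2).map (algebraMap R Λ) →ₐ[R ⧸ I ^ 2] Λ ⧸ I.map (algebraMap R Λ) :=
    { toRingHom := Ideal.Quotient.factor hle'
      commutes' := fun x => by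
        obtain ⟨r, rfl⟩ := Ideal.Quotient.mk_surjective x
        rfl }
  refine indSmooth_of_sq_zero (I := Ib) ?_ q (Ideal.Quotient.factor_surjective hle') ?_
    (indSmooth_of_bijective hbij h)
  · rw [← Ideal.map_pow, Ideal.map_quotient_self]
  · rw [show RingHom.ker q.toRingHom = _ from Ideal.Quotient.factor_ker hle', Ideal.map_map,
      Ideal.map_map]
    rfl

/-- Ind-smoothness lifts along a nilpotent ideal of the base when the algebra is flat. -/
theorem indSmooth_of_nilpotent {R Λ : Type u} [CommRing R] [CommRing Λ] [Algebra R Λ]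
    [Module.Flat R Λ] {I : Ideal R} (hI : IsNilpotent I)
    (h : Smoothing.IndSmooth (R ⧸ I) (Λ ⧸ I.map (algebraMap R Λ))) : Smoothing.IndSmooth R Λ := by
  obtain ⟨n, hn⟩ := hI
  exact indSmooth_of_pow_eq_bot n I hn h

end Groth.Agent.IndLiftLib
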