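import Groth.Prelude.Def_Smoothing
import Groth.Agent.SmLift.Main
import Mathlib

/-!
Lifting ind-smoothness along square-zero thickenings of the base.
-/

set_option autoImplicit false

universe u

open TensorProduct

namespace Groth.Agent.IndLiftLib

/-- An element of an extended ideal is a finite combination of images of elements of the ideal. -/
theorem exists_sum_of_mem_map {R S : Type*} [CommRing R] [CommRing S] [Algebra R S] {I : Ideal R}
    {x : S} (hx : x ∈ I.map (algebraMap R S)) :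
    ∃ (m : ℕ) (a : Fin m → R) (y : Fin m → S), (∀ k, a k ∈ I) ∧
      ∑ k, algebraMap R S (a k) * y k = x := by
  rw [Ideal.map, Submodule.mem_span_set'] at hx
  obtain ⟨m, c, g, hg⟩ := hx
  choose a ha ha' using fun k => (g k).2
  refine ⟨m, a, c, ha, ?_⟩
  rw [← hg]
  exact Finset.sum_congr rfl fun k _ => by rw [ha', smul_eq_mul, mul_comm]

variable {R : Type u} [CommRing R] {I : Ideal R}

/-- A smooth algebra over `R/I` with a map to `Λ/IΛ` lifts, together with the map. -/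
theorem exists_lift_smooth_map (hI : I ^ 2 = ⊥) {Λ Λ₀ : Type u} [CommRing Λ] [Algebra R Λ]
    [CommRing Λ₀] [Algebra R Λ₀] [Algebra (R ⧸ I) Λ₀] [IsScalarTower R (R ⧸ I) Λ₀]
    (q : Λ →ₐ[R] Λ₀) (hq : Function.Surjective q)
    (hqker : RingHom.ker q.toRingHom = I.map (algebraMap R Λ))
    {C : Type u} [CommRing C] [Algebra (R ⧸ I) C] [Algebra R C] [IsScalarTower R (R ⧸ I) C]
    [Algebra.Smooth (R ⧸ I) C] (h₀ : C →ₐ[R ⧸ I] Λ₀) :
    ∃ (B : Type u) (_ : CommRing B) (_ : Algebra R B), Algebra.Smooth R B ∧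
      ∃ (π : B →ₐ[R] C) (h : B →ₐ[R] Λ), Function.Surjective π ∧
        RingHom.ker π.toRingHom = I.map (algebraMap R B) ∧ ∀ b, q (h b) = h₀ (π b) := by
  obtain ⟨B, _, _, hB, π, hπ, hπker⟩ := SmLift.exists_smooth_lift (A := R) (I := I) (C := C)
  haveI := hB
  have hnil : IsNilpotent (RingHom.ker (q : Λ →+* Λ₀)) := ⟨2, by
    rw [show RingHom.ker (q : Λ →+* Λ₀) = _ from hqker, ← Ideal.map_pow, hI, Ideal.map_bot]; rfl⟩
  exact ⟨B, inferInstance, inferInstance, hB, π,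
    Algebra.FormallySmooth.liftOfSurjective ((h₀.restrictScalars R).comp π) q hq hnil, hπ, hπker,
    fun b => Algebra.FormallySmooth.liftOfSurjective_apply _ q hq hnil b⟩

/-- Lifting once. -/
theorem lift_once (hI : I ^ 2 = ⊥) {Λ Λ₀ : Type u} [CommRing Λ] [Algebra R Λ]
    [CommRing Λ₀] [Algebra R Λ₀] [Algebra (R ⧸ I) Λ₀] [IsScalarTower R (R ⧸ I) Λ₀]
    (q : Λ →ₐ[R] Λ₀) (hq : Function.Surjective q)
    (hqker : RingHom.ker q.toRingHom = I.map (algebraMap R Λ)) (h : Smoothing.IndSmooth (R ⧸ I) Λ₀)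
    {A : Type u} [CommRing A] [Algebra R A] [Algebra.FinitePresentation R A] (φ : A →ₐ[R] Λ) :
    ∃ (B : Type u) (_ : CommRing B) (_ : Algebra R B), Algebra.Smooth R B ∧
      ∃ J : Ideal B, J ≤ I.map (algebraMap R B) ∧ J.FG ∧
        ∃ (g : A →ₐ[R] B ⧸ J) (k : (B ⧸ J) →ₐ[R] Λ), k.comp g = φ := by
  classical
  obtain ⟨C, _, _, hC, g₁, h₀, hgh⟩ := h ((R ⧸ I) ⊗[R] A) inferInstance
    (Algebra.TensorProduct.lift (Algebra.ofId (R ⧸ I) Λ₀) (q.comp φ) fun _ _ => Commute.all _ _)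
  letI : Algebra R C := ((algebraMap (R ⧸ I) C).comp (Ideal.Quotient.mk I)).toAlgebra
  haveI : IsScalarTower R (R ⧸ I) C := .of_algebraMap_eq fun _ => rfl
  haveI := hC
  let g₀ : A →ₐ[R] C := (g₁.restrictScalars R).comp Algebra.TensorProduct.includeRight
  have hg₀ : ∀ a, h₀ (g₀ a) = q (φ a) := fun a => by
    show h₀ (g₁ (1 ⊗ₜ a)) = _
    rw [← AlgHom.comp_apply, hgh, Algebra.TensorProduct.lift_tmul, map_one, one_mul]
    rfl
  obtain ⟨B, _, _, hB, π, hB', hπ, hπker, hB'eq⟩ := exists_lift_smooth_map hI q hq hqker h₀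
  obtain ⟨n, P, hP, ⟨s, hs⟩⟩ := (inferInstance : Algebra.FinitePresentation R A).out
  choose b hb using fun i => hπ (g₀ (P (MvPolynomial.X i)))
  have hdiff : ∀ i, φ (P (MvPolynomial.X i)) - hB' (b i) ∈ I.map (algebraMap R Λ) := fun i => by
    rw [← hqker, RingHom.mem_ker]
    show q (_ - _) = 0
    rw [map_sub, hB'eq, hb, hg₀, sub_self]
  choose m a y ha hsum using fun i => exists_sum_of_mem_map (hdiff i)
  let B₁ := MvPolynomial (Σ i, Fin (m i)) B
  haveI := hB
  haveI : Algebra.Smooth B B₁ := ⟨inferInstance, inferInstance⟩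
  haveI : Algebra.Smooth R B₁ := Algebra.Smooth.comp R B B₁
  let H : B₁ →ₐ[R] Λ := MvPolynomial.aevalTower hB' fun p => y p.1 p.2
  have hX : ∀ q, H (MvPolynomial.X q) = y q.1 q.2 := fun q => MvPolynomial.aevalTower_X _ _ q
  have hC : ∀ x, H (MvPolynomial.C x) = hB' x := fun x => MvPolynomial.aevalTower_C _ _ x
  let b₁ : Fin n → B₁ := fun i =>
    MvPolynomial.C (b i) + ∑ k, algebraMap R B₁ (a i k) * MvPolynomial.X ⟨i, k⟩
  let ev : MvPolynomial (Fin n) R →ₐ[R] B₁ := MvPolynomial.aeval b₁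
  have hH : ∀ f, H (ev f) = φ (P f) := by
    refine AlgHom.congr_fun (MvPolynomial.algHom_ext (f := H.comp ev) (g := φ.comp P) fun i => ?_)
    show H (MvPolynomial.aeval b₁ (MvPolynomial.X i)) = φ (P (MvPolynomial.X i))
    rw [MvPolynomial.aeval_X]
    simp only [b₁, map_add, map_sum, map_mul, AlgHom.commutes, hX, hC]
    rw [hsum, add_sub_cancel]
  let π₁ : B₁ →ₐ[R] MvPolynomial (Σ i, Fin (m i)) C := MvPolynomial.mapAlgHom π
  have hπ₁ker : ∀ x, π₁ x = 0 → x ∈ I.map (algebraMap R B₁) := by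
    intro x hx
    have h1 : x ∈ RingHom.ker (MvPolynomial.map (σ := Σ i, Fin (m i)) π.toRingHom) := hx
    rw [MvPolynomial.ker_map, hπker, Ideal.map_map] at h1
    exact h1
  have hev : ∀ f, π₁ (ev f) = MvPolynomial.C (g₀ (P f)) := by
    let Cc : C →ₐ[R] MvPolynomial (Σ i, Fin (m i)) C := IsScalarTower.toAlgHom R C _
    refine AlgHom.congr_fun (MvPolynomial.algHom_ext (f := π₁.comp ev) (g := Cc.comp (g₀.comp P)) fun i => ?_)
    show π₁ (MvPolynomial.aeval b₁ (MvPolynomial.X i)) = MvPolynomial.C (g₀ (P (MvPolynomial.X i)))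
    rw [MvPolynomial.aeval_X, map_add, map_sum, Finset.sum_eq_zero fun k _ => ?_, add_zero]
    · show MvPolynomial.map π.toRingHom (MvPolynomial.C (b i)) = _
      rw [MvPolynomial.map_C]
      exact congrArg _ (hb i)
    · rw [map_mul, AlgHom.commutes, IsScalarTower.algebraMap_apply R C, IsScalarTower.algebraMap_apply R (R ⧸ I) C,
        Ideal.Quotient.algebraMap_eq, Ideal.Quotient.eq_zero_iff_mem.2 (ha i k), map_zero, map_zero, zero_mul]
  let J : Ideal B₁ := Ideal.span (ev '' (s : Set (MvPolynomial (Fin n) R)))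
  have hsP : ∀ f ∈ s, P f = 0 := fun f hf =>
    (hs ▸ Submodule.subset_span hf : f ∈ RingHom.ker P.toRingHom)
  refine ⟨B₁, inferInstance, inferInstance, inferInstance, J, ?_, ⟨s.image ev, by simp [J]⟩, ?_⟩
  · rw [Ideal.span_le]
    rintro _ ⟨f, hf, rfl⟩
    exact hπ₁ker _ (by rw [hev, hsP f hf, map_zero, map_zero])
  have hJker : ∀ x ∈ J, H x = 0 := fun x hx => by
    have : J ≤ RingHom.ker H.toRingHom := by
      rw [Ideal.span_le]
      rintro _ ⟨f, hf, rfl⟩
      show H (ev f) = 0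
      rw [hH, hsP f hf, map_zero]
    exact this hx
  let g : A →ₐ[R] B₁ ⧸ J := AlgHom.liftOfSurjective P hP ((Ideal.Quotient.mkₐ R J).comp ev) (by
    intro f hf
    have hf' : f ∈ RingHom.ker P.toRingHom := hf
    rw [← hs] at hf'
    have h2 : Ideal.span (s : Set (MvPolynomial (Fin n) R)) ≤ J.comap ev.toRingHom :=
      Ideal.span_le.2 fun z hz => Ideal.subset_span ⟨z, hz, rfl⟩
    rw [RingHom.mem_ker]
    exact Ideal.Quotient.eq_zero_iff_mem.2 (h2 hf'))
  refine ⟨g, Ideal.Quotient.liftₐ J H hJker, AlgHom.ext fun x => ?_⟩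
  obtain ⟨f, rfl⟩ := hP x
  show Ideal.Quotient.liftₐ J H hJker (g (P f)) = _
  rw [show g (P f) = Ideal.Quotient.mk J (ev f) by simp [g]]
  exact hH f

/-- Lifting twice. -/
theorem lift_twice (hI : I ^ 2 = ⊥) {Λ Λ₀ : Type u} [CommRing Λ] [Algebra R Λ] [Module.Flat R Λ]
    [CommRing Λ₀] [Algebra R Λ₀] [Algebra (R ⧸ I) Λ₀] [IsScalarTower R (R ⧸ I) Λ₀]
    (q : Λ →ₐ[R] Λ₀) (hq : Function.Surjective q)
    (hqker : RingHom.ker q.toRingHom = I.map (algebraMap R Λ)) (h : Smoothing.IndSmooth (R ⧸ I) Λ₀)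
    {B : Type u} [CommRing B] [Algebra R B] [Algebra.Smooth R B] (φ : B →ₐ[R] Λ) (J : Ideal B)
    (hJ : J ≤ I.map (algebraMap R B)) (hJfg : J.FG) (hφJ : ∀ x ∈ J, φ x = 0) :
    ∃ (B' : Type u) (_ : CommRing B') (_ : Algebra R B'), Algebra.Smooth R B' ∧
      ∃ (α : B →ₐ[R] B') (β : B' →ₐ[R] Λ), (∀ x ∈ J, α x = 0) ∧
        ∀ b : B, β (α b) - φ b ∈ I.map (algebraMap R Λ) := by
  classical
  obtain ⟨s, hs⟩ := hJfg
  choose m r b hr hsum using fun j : s =>
    exists_sum_of_mem_map (hJ (show (j : B) ∈ J from hs.le (Submodule.subset_span j.2)))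
  have hrel : ∀ j : s, ∑ k, r j k • φ (b j k) = 0 := fun j => by
    rw [← hφJ _ (show (j : B) ∈ J from hs.le (Submodule.subset_span j.2)), ← hsum j, map_sum]
    exact Finset.sum_congr rfl fun k _ => by rw [map_mul, AlgHom.commutes, Algebra.smul_def]
  choose l a y hy ha using fun j : s =>
    Module.Flat.isTrivialRelation_of_sum_smul_eq_zero (R := R) (M := Λ) (hrel j)
  let B₁ := MvPolynomial (Σ j : s, Fin (l j)) B
  let H : B₁ →ₐ[R] Λ := MvPolynomial.aevalTower φ fun p => y p.1 p.2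
  have hX : ∀ q, H (MvPolynomial.X q) = y q.1 q.2 := fun q => MvPolynomial.aevalTower_X _ _ q
  have hC : ∀ x, H (MvPolynomial.C x) = φ x := fun x => MvPolynomial.aevalTower_C _ _ x
  let gen : (Σ j : s, Fin (m j)) → B₁ := fun p =>
    MvPolynomial.C (b p.1 p.2) - ∑ i, algebraMap R B₁ (a p.1 p.2 i) * MvPolynomial.X ⟨p.1, i⟩
  have hgen : ∀ p, H (gen p) = 0 := fun p => by
    simp only [gen, map_sub, map_sum, map_mul, AlgHom.commutes, hX, hC]
    refine sub_eq_zero.2 ((hy p.1 p.2).trans ?_)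
    exact Finset.sum_congr rfl fun i _ => Algebra.smul_def _ _
  haveI : Algebra.FinitePresentation R B₁ := Algebra.FinitePresentation.mvPolynomial _ _ _
  let K : Ideal B₁ := Ideal.span (Set.range gen)
  haveI : Algebra.FinitePresentation R (B₁ ⧸ K) :=
    Algebra.FinitePresentation.quotient (Submodule.fg_span (Set.finite_range gen))
  let HK : B₁ ⧸ K →ₐ[R] Λ := Ideal.Quotient.liftₐ K H fun x hx =>
    (show K ≤ RingHom.ker H.toRingHom from Ideal.span_le.2 (by rintro _ ⟨p, rfl⟩; exact hgen p)) hx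
  obtain ⟨C, _, _, hC, g₁, h₀, hgh⟩ := h ((R ⧸ I) ⊗[R] (B₁ ⧸ K)) inferInstance
    (Algebra.TensorProduct.lift (Algebra.ofId (R ⧸ I) Λ₀) (q.comp HK) fun _ _ => Commute.all _ _)
  letI : Algebra R C := ((algebraMap (R ⧸ I) C).comp (Ideal.Quotient.mk I)).toAlgebra
  haveI : IsScalarTower R (R ⧸ I) C := .of_algebraMap_eq fun _ => rfl
  haveI := hC
  let g₀ : B₁ →ₐ[R] C := ((g₁.restrictScalars R).comp Algebra.TensorProduct.includeRight).comp
    (Ideal.Quotient.mkₐ R K)
  have hg₀ : ∀ x, h₀ (g₀ x) = q (H x) := fun x => by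
    show h₀ (g₁ (1 ⊗ₜ Ideal.Quotient.mk K x)) = _
    rw [← AlgHom.comp_apply, hgh, Algebra.TensorProduct.lift_tmul, map_one, one_mul]
    rfl
  have hg₀gen : ∀ p, g₀ (gen p) = 0 := fun p => by
    show g₁ (1 ⊗ₜ Ideal.Quotient.mk K (gen p)) = 0
    rw [Ideal.Quotient.eq_zero_iff_mem.2 (show gen p ∈ K from Ideal.subset_span (Set.mem_range_self p)),
      TensorProduct.tmul_zero, map_zero]
  obtain ⟨B', _, _, hB', π, β, hπ, hπker, hβ⟩ := exists_lift_smooth_map hI q hq hqker h₀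
  choose z hz using fun p => hπ (g₀ (MvPolynomial.X p))
  have hnil : IsNilpotent (RingHom.ker (π : B' →+* C)) := ⟨2, by
    rw [show RingHom.ker (π : B' →+* C) = _ from hπker, ← Ideal.map_pow, hI, Ideal.map_bot]; rfl⟩
  let α : B →ₐ[R] B' := Algebra.FormallySmooth.liftOfSurjective
    (g₀.comp (IsScalarTower.toAlgHom R B B₁)) π hπ hnil
  have hα : ∀ x, π (α x) = g₀ (MvPolynomial.C x) := fun x =>
    Algebra.FormallySmooth.liftOfSurjective_apply _ π hπ hnil x
  refine ⟨B', inferInstance, inferInstance, hB', α, β, fun x hx => ?_, fun x => ?_⟩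
  · have hle : J ≤ RingHom.ker α.toRingHom := by
      rw [← hs, Submodule.span_le]
      intro j hj
      show α ((⟨j, hj⟩ : s) : B) = 0
      rw [← hsum ⟨j, hj⟩, map_sum]
      have hk : ∀ k, α (b ⟨j, hj⟩ k) - ∑ i, algebraMap R B' (a ⟨j, hj⟩ k i) * z ⟨⟨j, hj⟩, i⟩ ∈
          I.map (algebraMap R B') := fun k => by
        rw [← hπker, RingHom.mem_ker]
        show π (_ - _) = 0
        rw [map_sub, hα, map_sum, ← hg₀gen ⟨⟨j, hj⟩, k⟩]
        simp only [gen, map_sub, map_sum, map_mul, AlgHom.commutes, hz]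
      calc ∑ k, α (algebraMap R B (r ⟨j, hj⟩ k) * b ⟨j, hj⟩ k)
          = ∑ k, algebraMap R B' (r ⟨j, hj⟩ k) *
              ∑ i, algebraMap R B' (a ⟨j, hj⟩ k i) * z ⟨⟨j, hj⟩, i⟩ := by
            refine Finset.sum_congr rfl fun k _ => ?_
            rw [map_mul, AlgHom.commutes, ← sub_eq_zero, ← mul_sub]
            have h2 := Ideal.mul_mem_mul (Ideal.mem_map_of_mem (algebraMap R B') (hr ⟨j, hj⟩ k)) (hk k)
            rw [← pow_two, ← Ideal.map_pow, hI, Ideal.map_bot] at h2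
            exact h2
        _ = 0 := by
            simp only [Finset.mul_sum, ← mul_assoc, ← map_mul]
            rw [Finset.sum_comm]
            refine Finset.sum_eq_zero fun i _ => ?_
            rw [← Finset.sum_mul, ← map_sum, ha, map_zero, zero_mul]
    exact hle hx
  · rw [← hqker, RingHom.mem_ker]
    show q (_ - _) = 0
    rw [map_sub, hβ, hα, hg₀, sub_eq_zero]
    exact congrArg q (MvPolynomial.aevalTower_C _ _ x)

/-- Ind-smoothness lifts along a square-zero ideal of the base when the algebra is flat. -/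
theorem indSmooth_of_sq_zero (hI : I ^ 2 = ⊥) {Λ Λ₀ : Type u} [CommRing Λ] [Algebra R Λ]
    [Module.Flat R Λ] [CommRing Λ₀] [Algebra R Λ₀] [Algebra (R ⧸ I) Λ₀] [IsScalarTower R (R ⧸ I) Λ₀]
    (q : Λ →ₐ[R] Λ₀) (hq : Function.Surjective q)
    (hqker : RingHom.ker q.toRingHom = I.map (algebraMap R Λ)) (h : Smoothing.IndSmooth (R ⧸ I) Λ₀) :
    Smoothing.IndSmooth R Λ := by
  intro A _ _ hA f
  classical
  haveI := hA
  obtain ⟨B, _, _, hB, J, hJI, hJfg, g, k, hkg⟩ := lift_once hI q hq hqker h f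
  haveI := hB
  let φ : B →ₐ[R] Λ := k.comp (Ideal.Quotient.mkₐ R J)
  obtain ⟨B', _, _, hB', α, β, hαJ, hβα⟩ := lift_twice hI q hq hqker h φ J hJI hJfg (fun x hx => by
    show k (Ideal.Quotient.mk J x) = 0
    rw [Ideal.Quotient.eq_zero_iff_mem.2 hx, map_zero])
  obtain ⟨n, P, hP, -⟩ := (inferInstance : Algebra.FinitePresentation R B).out
  have hdiff : ∀ i, φ (P (MvPolynomial.X i)) - β (α (P (MvPolynomial.X i))) ∈ I.map (algebraMap R Λ) :=
    fun i => by rw [← neg_sub]; exact neg_mem (hβα _)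
  choose m a y ha hsum using fun i => exists_sum_of_mem_map (hdiff i)
  haveI := hB'
  let B₂ := MvPolynomial (Σ i, Fin (m i)) B'
  haveI : Algebra.Smooth B' B₂ := ⟨inferInstance, inferInstance⟩
  haveI : Algebra.Smooth R B₂ := Algebra.Smooth.comp R B' B₂
  let H : B₂ →ₐ[R] Λ := MvPolynomial.aevalTower β fun p => y p.1 p.2
  have hX : ∀ q, H (MvPolynomial.X q) = y q.1 q.2 := fun q => MvPolynomial.aevalTower_X _ _ q
  have hC : ∀ x, H (MvPolynomial.C x) = β x := fun x => MvPolynomial.aevalTower_C _ _ x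
  let I₂ : Ideal B₂ := I.map (algebraMap R B₂)
  let α₂ : B →ₐ[R] B₂ := (IsScalarTower.toAlgHom R B' B₂).comp α
  let ψ : B₂ →ₐ[R] Λ × (B₂ ⧸ I₂) := H.prod (Ideal.Quotient.mkₐ R I₂)
  let χ : B →ₐ[R] Λ × (B₂ ⧸ I₂) := φ.prod ((Ideal.Quotient.mkₐ R I₂).comp α₂)
  have hgens : ∀ i, χ (P (MvPolynomial.X i)) ∈ ψ.range := fun i => by
    refine ⟨α₂ (P (MvPolynomial.X i)) + ∑ l, algebraMap R B₂ (a i l) * MvPolynomial.X ⟨i, l⟩, Prod.ext ?_ ?_⟩
    · show H (MvPolynomial.C (α _) + _) = φ _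
      simp only [map_add, map_sum, map_mul, AlgHom.commutes, hX, hC]
      rw [hsum, add_sub_cancel]
    · show Ideal.Quotient.mk I₂ (_ + _) = Ideal.Quotient.mk I₂ _
      refine (map_add _ _ _).trans (add_eq_left.2 ?_)
      exact Ideal.Quotient.eq_zero_iff_mem.2
        (sum_mem fun l _ => Ideal.mul_mem_right _ _ (Ideal.mem_map_of_mem _ (ha i l)))
  have hrange : χ.range ≤ ψ.range := by
    rw [← Algebra.map_top, ← (AlgHom.range_eq_top P).2 hP, ← AlgHom.range_comp,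
      ← Algebra.map_top, ← MvPolynomial.adjoin_range_X, AlgHom.map_adjoin, Algebra.adjoin_le_iff]
    rintro _ ⟨_, ⟨i, rfl⟩, rfl⟩
    exact hgens i
  have hnil : IsNilpotent (RingHom.ker (ψ.rangeRestrict : B₂ →+* ψ.range)) := by
    have hle : RingHom.ker (ψ.rangeRestrict : B₂ →+* ψ.range) ≤ I₂ := fun x hx => by
      have h0 : ψ x = 0 := congrArg Subtype.val hx
      exact Ideal.Quotient.eq_zero_iff_mem.1 (congrArg Prod.snd h0)
    refine ⟨2, le_bot_iff.1 ((Ideal.pow_right_mono hle 2).trans ?_)⟩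
    rw [← Ideal.map_pow, hI, Ideal.map_bot]
  let χ' : B →ₐ[R] ψ.range := χ.codRestrict ψ.range fun x => hrange ⟨x, rfl⟩
  let α' : B →ₐ[R] B₂ := Algebra.FormallySmooth.liftOfSurjective (C := ↥ψ.range) χ' ψ.rangeRestrict
    ψ.rangeRestrict_surjective hnil
  have hα' : ∀ x, ψ (α' x) = χ x := fun x => congrArg Subtype.val
    (Algebra.FormallySmooth.liftOfSurjective_apply (C := ↥ψ.range) χ' ψ.rangeRestrict
      ψ.rangeRestrict_surjective hnil x)
  have hsame : ∀ x ∈ I.map (algebraMap R B), α' x = α₂ x := by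
    intro x hx
    obtain ⟨m', c, v, hc, rfl⟩ := exists_sum_of_mem_map hx
    simp only [map_sum, map_mul, AlgHom.commutes]
    refine Finset.sum_congr rfl fun i _ => ?_
    rw [← sub_eq_zero, ← mul_sub]
    have hd : α' (v i) - α₂ (v i) ∈ I₂ :=
      (Ideal.Quotient.eq (I := I₂)).1 (congrArg Prod.snd (hα' (v i)))
    have h2 := Ideal.mul_mem_mul (Ideal.mem_map_of_mem (algebraMap R B₂) (hc i)) hd
    rw [← pow_two, ← Ideal.map_pow, hI, Ideal.map_bot] at h2
    exact h2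
  let αJ : B ⧸ J →ₐ[R] B₂ := Ideal.Quotient.liftₐ J α' fun x hx => by
    rw [hsame x (hJI hx)]
    show MvPolynomial.C (α x) = 0
    rw [hαJ x hx, map_zero]
  refine ⟨B₂, inferInstance, inferInstance, inferInstance, αJ.comp g, H, ?_⟩
  rw [← hkg, ← AlgHom.comp_assoc]
  congr 1
  refine AlgHom.ext fun x => ?_
  obtain ⟨x, rfl⟩ := Ideal.Quotient.mk_surjective x
  exact congrArg Prod.fst (hα' x)

/-- Transfer of ind-smoothness along a bijection of base rings. -/
theorem indSmooth_of_bijective {R₀ R₁ Λ : Type u} [CommRing R₀] [CommRing R₁] [Algebra R₀ R₁]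
    (hb : Function.Bijective (algebraMap R₀ R₁)) [CommRing Λ] [Algebra R₀ Λ] [Algebra R₁ Λ]
    [IsScalarTower R₀ R₁ Λ] (h : Smoothing.IndSmooth R₀ Λ) : Smoothing.IndSmooth R₁ Λ := by
  let e : R₀ ≃+* R₁ := RingEquiv.ofBijective _ hb
  intro A _ _ hA f
  letI : Algebra R₀ A := ((algebraMap R₁ A).comp (algebraMap R₀ R₁)).toAlgebra
  haveI : IsScalarTower R₀ R₁ A := .of_algebraMap_eq fun _ => rfl
  haveI := hA
  haveI : Algebra.FinitePresentation R₀ R₁ := Algebra.FinitePresentation.equiv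
    (AlgEquiv.ofBijective (Algebra.ofId R₀ R₁) hb)
  haveI : Algebra.FinitePresentation R₀ A := Algebra.FinitePresentation.trans R₀ R₁ A
  obtain ⟨B, _, _, hB, g, k, hkg⟩ := h A inferInstance (f.restrictScalars R₀)
  haveI := hB
  letI : Algebra R₁ B := ((algebraMap R₀ B).comp e.symm.toRingHom).toAlgebra
  haveI : IsScalarTower R₀ R₁ B := .of_algebraMap_eq fun x =>
    (congrArg (algebraMap R₀ B) (e.symm_apply_apply x)).symm
  haveI : Algebra.FormallyUnramified R₀ R₁ :=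
    Algebra.FormallyUnramified.of_surjective (Algebra.ofId R₀ R₁) hb.2
  haveI : Algebra.FormallySmooth R₁ B := Algebra.FormallySmooth.of_restrictScalars R₀ R₁ B
  haveI : Algebra.FinitePresentation R₁ B :=
    Algebra.FinitePresentation.of_restrict_scalars_finitePresentation R₀ R₁ B
  refine ⟨B, inferInstance, inferInstance, ⟨inferInstance, inferInstance⟩,
    { toRingHom := g.toRingHom, commutes' := fun x => ?_ },
    { toRingHom := k.toRingHom, commutes' := fun x => ?_ }, AlgHom.ext fun a => AlgHom.congr_fun hkg a⟩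
  · obtain ⟨y, rfl⟩ := hb.2 x
    show g (algebraMap R₁ A (algebraMap R₀ R₁ y)) = algebraMap R₁ B (algebraMap R₀ R₁ y)
    rw [← IsScalarTower.algebraMap_apply, ← IsScalarTower.algebraMap_apply, g.commutes]
  · obtain ⟨y, rfl⟩ := hb.2 x
    show k (algebraMap R₁ B (algebraMap R₀ R₁ y)) = algebraMap R₁ Λ (algebraMap R₀ R₁ y)
    rw [← IsScalarTower.algebraMap_apply, ← IsScalarTower.algebraMap_apply, k.commutes]

end Groth.Agent.IndLiftLib
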